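import Mathlib
import Cfsg.Agent.Lib.Helper57.OPar.Defs

/-!
# OPAR [PDER+] (S5989): package [KB]

The shift matrix `sh F d h d` for `d = 2 h + 1`.
-/

set_option autoImplicit false
open scoped MatrixGroups
open Matrix

namespace Cfsg.Agent.Lib.Helper38.OPar

open Cfsg.Agent.Lib.Helper57.OPar

universe u

section kb

variable {F : Type u} [Field F] {d h : ℕ}

theorem sh_mulVec (a : Fin d → F) (i : Fin d) :
    (sh F d h d *ᵥ a) i = if hi : i.val + h < d then a ⟨i.val + h, hi⟩ else 0 := by
  simp only [mulVec, dotProduct, sh, of_apply]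
  split_ifs with hi
  · rw [Finset.sum_eq_single ⟨i.val + h, hi⟩]
    · simp [i.2]
    · intro k _ hk
      have : ¬ (k.val = i.val + h) := fun e => hk (Fin.ext e)
      simp [this]
    · simp
  · apply Finset.sum_eq_zero
    intro k _
    have : ¬ (k.val = i.val + h) := by have := k.2; omega
    simp [this]

theorem shT_mulVec (b : Fin d → F) (k : Fin d) :
    ((sh F d h d)ᵀ *ᵥ b) k
      = if hk : h ≤ k.val then b ⟨k.val - h, by have := k.2; omega⟩ else 0 := by
  simp only [mulVec, dotProduct, sh, of_apply, transpose_apply]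
  split_ifs with hk
  · rw [Finset.sum_eq_single ⟨k.val - h, by have := k.2; omega⟩]
    · dsimp only
      rw [if_pos ⟨by omega, by have := k.2; omega⟩, one_mul]
    · intro i _ hi
      have : ¬ (k.val = i.val + h) := fun e => hi (Fin.ext (by simp [e]))
      simp [this]
    · simp
  · apply Finset.sum_eq_zero
    intro i _
    have : ¬ (k.val = i.val + h) := by omega
    simp [this]

theorem xM_sub_one (M : Matrix (Fin d) (Fin d) F) :
    xM M - 1 = fromBlocks M 0 0 (-Mᵀ + Mᵀ * Mᵀ) := by
  unfold xM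
  ext (i | i) (j | j) <;> simp [Matrix.one_apply]
  ring


theorem ker_a (a : Fin d → F) (ha : sh F d h d *ᵥ a = 0) (k : Fin d) (hk : h ≤ k.val) :
    a k = 0 := by
  have hlt : k.val - h + h < d := by have := k.2; omega
  have e : (⟨k.val - h + h, hlt⟩ : Fin d) = k := Fin.ext (Nat.sub_add_cancel hk)
  have h1 := congrFun ha ⟨k.val - h, by have := k.2; omega⟩
  rw [sh_mulVec] at h1
  simp only [Pi.zero_apply] at h1
  rw [dif_pos hlt, e] at h1
  exact h1

theorem ker_b (hh : 1 ≤ h) (hd : d = 2 * h + 1) (b : Fin d → F)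
    (hb : -((sh F d h d)ᵀ *ᵥ b) + (sh F d h d)ᵀ *ᵥ ((sh F d h d)ᵀ *ᵥ b) = 0) (i : Fin d)
    (hi : i.val ≤ h) : b i = 0 := by
  have hlow : ∀ j : Fin d, j.val < h → b j = 0 := by
    intro j hj
    have h1 := congrFun hb ⟨j.val + h, by omega⟩
    simp only [Pi.add_apply, Pi.neg_apply, Pi.zero_apply, shT_mulVec] at h1
    rw [dif_pos (by omega), dif_pos (by omega), dif_neg (by omega), add_zero, neg_eq_zero] at h1
    have e : (⟨j.val + h - h, by omega⟩ : Fin d) = j := Fin.ext (by simp)
    rw [e] at h1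
    exact h1
  rcases Nat.lt_or_ge i.val h with hlt | hge
  · exact hlow i hlt
  · have hih : i.val = h := le_antisymm hi hge
    have h1 := congrFun hb ⟨2 * h, by omega⟩
    simp only [Pi.add_apply, Pi.neg_apply, Pi.zero_apply, shT_mulVec] at h1
    rw [dif_pos (by omega), dif_pos (by omega), dif_pos (by omega)] at h1
    have e0 : b ⟨2 * h - h - h, by omega⟩ = 0 := hlow _ (by simp; omega)
    have e : (⟨2 * h - h, by omega⟩ : Fin d) = i := Fin.ext (by simp; omega)
    rw [e0, add_zero, neg_eq_zero, e] at h1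
    exact h1

end kb

/-- [KB] -/
theorem pkgKB : PkgKB.{u} := by
  intro F _ d h hh hd
  classical
  have hN := xM_sub_one (sh F d h d)
  have hmv : ∀ v : Fin d ⊕ Fin d → F, (xM (sh F d h d) - 1) *ᵥ v
      = Sum.elim (sh F d h d *ᵥ (v ∘ Sum.inl))
          (-((sh F d h d)ᵀ *ᵥ (v ∘ Sum.inr))
            + (sh F d h d)ᵀ *ᵥ ((sh F d h d)ᵀ *ᵥ (v ∘ Sum.inr))) := by
    intro v
    rw [hN, fromBlocks_mulVec]
    simp [Matrix.add_mulVec, Matrix.neg_mulVec, Matrix.mulVec_mulVec]
  have hM3 : sh F d h d * sh F d h d * sh F d h d = 0 := by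
    apply Matrix.toLin'.injective
    apply LinearMap.ext
    intro a
    rw [Matrix.toLin'_apply, ← Matrix.mulVec_mulVec, ← Matrix.mulVec_mulVec]
    funext i
    simp only [sh_mulVec, map_zero]
    split_ifs <;> first | rfl | omega
  refine ⟨hM3, ?_, ?_, ?_⟩
  · intro h0
    have := congrFun (congrFun h0 ⟨0, by omega⟩) ⟨h, by omega⟩
    simp [sh] at this
  · intro u v hu hv
    rw [hmv] at hu hv
    have hua : sh F d h d *ᵥ (u ∘ Sum.inl) = 0 := by
      funext i; simpa using congrFun hu (Sum.inl i)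
    have hub : -((sh F d h d)ᵀ *ᵥ (u ∘ Sum.inr))
        + (sh F d h d)ᵀ *ᵥ ((sh F d h d)ᵀ *ᵥ (u ∘ Sum.inr)) = 0 := by
      funext k; simpa using congrFun hu (Sum.inr k)
    have hva : sh F d h d *ᵥ (v ∘ Sum.inl) = 0 := by
      funext i; simpa using congrFun hv (Sum.inl i)
    have hvb : -((sh F d h d)ᵀ *ᵥ (v ∘ Sum.inr))
        + (sh F d h d)ᵀ *ᵥ ((sh F d h d)ᵀ *ᵥ (v ∘ Sum.inr)) = 0 := by
      funext k; simpa using congrFun hv (Sum.inr k)
    unfold QuadraticMap.polar Cfsg.quadFormPlus
    rw [← Finset.sum_sub_distrib, ← Finset.sum_sub_distrib]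
    apply Finset.sum_eq_zero
    intro i _
    by_cases hi : h ≤ i.val
    · have h1 := ker_a _ hua i hi
      have h2 := ker_a _ hva i hi
      simp only [Function.comp_apply] at h1 h2
      simp only [Pi.add_apply, h1, h2]; ring
    · have h1 := ker_b hh hd _ hub i (by omega)
      have h2 := ker_b hh hd _ hvb i (by omega)
      simp only [Function.comp_apply] at h1 h2
      simp only [Pi.add_apply, h1, h2]; ring
  · have hT3 : (sh F d h d)ᵀ * (sh F d h d)ᵀ * (sh F d h d)ᵀ = 0 := by
      rw [mul_assoc, ← transpose_mul, ← transpose_mul, hM3, transpose_zero]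
    have hEE : (-(sh F d h d)ᵀ + (sh F d h d)ᵀ * (sh F d h d)ᵀ)
        * (-(sh F d h d)ᵀ + (sh F d h d)ᵀ * (sh F d h d)ᵀ)
        = (sh F d h d)ᵀ * (sh F d h d)ᵀ := by
      generalize (sh F d h d)ᵀ = T at hT3
      calc (-T + T * T) * (-T + T * T)
          = T * T - (T * T * T) - (T * T * T) + (T * T * T) * T := by noncomm_ring
        _ = T * T := by rw [hT3]; simp
    have hNN : (xM (sh F d h d) - 1) * (xM (sh F d h d) - 1)
        = fromBlocks (sh F d h d * sh F d h d) 0 0 ((sh F d h d)ᵀ * (sh F d h d)ᵀ) := by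
      rw [hN, fromBlocks_multiply, hEE]
      simp
    have h0d : 0 < d := by omega
    have h2d : 2 * h < d := by omega
    have hNNv : ∀ v : Fin d ⊕ Fin d → F,
        ((xM (sh F d h d) - 1) * (xM (sh F d h d) - 1)) *ᵥ v
          = v (Sum.inl ⟨2 * h, h2d⟩) • Pi.single (Sum.inl ⟨0, h0d⟩) (1 : F)
            + v (Sum.inr ⟨0, h0d⟩) • Pi.single (Sum.inr ⟨2 * h, h2d⟩) (1 : F) := by
      intro v
      rw [hNN, fromBlocks_mulVec]
      simp only [Matrix.zero_mulVec, add_zero, zero_add, ← Matrix.mulVec_mulVec]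
      funext x
      rcases x with i | k
      · simp only [Sum.elim_inl, Pi.add_apply, Pi.smul_apply, smul_eq_mul, sh_mulVec,
          Function.comp_apply]
        by_cases hi0 : i.val = 0
        · have ei : i = ⟨0, h0d⟩ := Fin.ext hi0
          subst ei
          rw [dif_pos (by simp; omega), dif_pos (by simp; omega)]
          simp
          exact congrArg (fun j => v (Sum.inl j)) (Fin.ext (by show h + h = 2 * h; omega))
        · have hne : (Sum.inl i : Fin d ⊕ Fin d) ≠ Sum.inl ⟨0, h0d⟩ := by
            intro e; exact hi0 (congrArg Fin.val (Sum.inl.inj e))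
          have : (if hi : i.val + h < d then
              (if hi2 : (⟨i.val + h, hi⟩ : Fin d).val + h < d then
                v (Sum.inl ⟨(⟨i.val + h, hi⟩ : Fin d).val + h, hi2⟩) else 0) else 0) = 0 := by
            split_ifs with h1 h2
            · exfalso; simp at h2; omega
            · rfl
            · rfl
          rw [this]
          simp [hne]
      · simp only [Sum.elim_inr, Pi.add_apply, Pi.smul_apply, smul_eq_mul, shT_mulVec,
          Function.comp_apply]
        by_cases hk0 : k.val = 2 * h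
        · have ek : k = ⟨2 * h, h2d⟩ := Fin.ext hk0
          subst ek
          rw [dif_pos (by simp; omega), dif_pos (by simp; omega)]
          have e : (⟨2 * h - h - h, by omega⟩ : Fin d) = ⟨0, h0d⟩ := Fin.ext (by simp; omega)
          simp [e]
        · have hne : (Sum.inr k : Fin d ⊕ Fin d) ≠ Sum.inr ⟨2 * h, h2d⟩ := by
            intro e; exact hk0 (congrArg Fin.val (Sum.inr.inj e))
          have : (if hk : h ≤ k.val then
              (if hk2 : h ≤ (⟨k.val - h, by have := k.2; omega⟩ : Fin d).val then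
                v (Sum.inr ⟨(⟨k.val - h, by have := k.2; omega⟩ : Fin d).val - h,
                  by have := k.2; simp; omega⟩) else 0) else 0) = 0 := by
            split_ifs with h1 h2
            · exfalso; simp at h2; have := k.2; omega
            · rfl
            · rfl
          rw [this]
          simp [hne]
    have hle : LinearMap.range (Matrix.toLin'
        ((xM (sh F d h d) - 1) * (xM (sh F d h d) - 1)))
        ≤ Submodule.span F (↑({Pi.single (Sum.inl ⟨0, h0d⟩) (1 : F),
            Pi.single (Sum.inr ⟨2 * h, h2d⟩) (1 : F)} : Finset (Fin d ⊕ Fin d → F)) :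
              Set (Fin d ⊕ Fin d → F)) := by
      rintro _ ⟨v, rfl⟩
      rw [Matrix.toLin'_apply, hNNv v]
      exact add_mem (Submodule.smul_mem _ _ (Submodule.subset_span (by simp)))
        (Submodule.smul_mem _ _ (Submodule.subset_span (by simp)))
    calc Module.finrank F (LinearMap.range (Matrix.toLin'
          ((xM (sh F d h d) - 1) * (xM (sh F d h d) - 1))))
        ≤ Module.finrank F (Submodule.span F (↑({Pi.single (Sum.inl ⟨0, h0d⟩) (1 : F),
            Pi.single (Sum.inr ⟨2 * h, h2d⟩) (1 : F)} : Finset (Fin d ⊕ Fin d → F)) :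
              Set (Fin d ⊕ Fin d → F))) := Submodule.finrank_mono hle
      _ ≤ ({Pi.single (Sum.inl ⟨0, h0d⟩) (1 : F),
            Pi.single (Sum.inr ⟨2 * h, h2d⟩) (1 : F)} : Finset (Fin d ⊕ Fin d → F)).card :=
          finrank_span_finset_le_card _
      _ ≤ 2 := Finset.card_le_two

end Cfsg.Agent.Lib.Helper38.OPar
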